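import Cfsg.Agent.LThreeExt.Num
import Cfsg.Agent.Phan.SU2Model
import Cfsg.Agent.LieClassical.HermPerfect
import Cfsg.Agent.TwoFusion.SLTwoFacts
import Cfsg.Agent.S0278
set_option linter.all false

/-!
# The `Tri` of `SU₃(q)`, `q > 3`

* `SU3.tri hF hq : Tri (SU 3 F q) (N1 F q)`, `std c = (Phan.ext hF (pr c) _).range`, `pr 2 = ![0,1]`, `pr 0 = ![1,2]`,
  `pr 1 = ![0,2]`;
* `SU3.numData`;
* `SU3.exists_hom`: a perfect finite central extension of `PSU₃(q)` with kernel of order a product of odd primes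
  dividing `q + 1` is a quotient of `SU₃(q)`.
-/

set_option autoImplicit false

namespace Cfsg.Agent.LThreeExt.SU3

open Matrix Cfsg Cfsg.Agent.Phan Subgroup
open Cfsg.Agent.LieClassical.GUOrder (frob frob_apply mul_map_eq_one_iff two_le)

variable {F : Type*} [Field F] {q : ℕ}

/-- scalars of norm one -/
abbrev N1 (F : Type*) [Field F] (q : ℕ) : Subgroup Fˣ := (powMonoidHom (q + 1) : Fˣ →* Fˣ).ker

theorem N1.norm (a : N1 F q) : ((a : Fˣ) : F) * ((a : Fˣ) : F) ^ q = 1 := by
  have h := a.2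
  rw [MonoidHom.mem_ker, powMonoidHom_apply] at h
  have h2 := congrArg (fun x : Fˣ => (x : F)) h
  simp only [Units.val_pow_eq_pow_val, Units.val_one] at h2
  rw [← h2, pow_succ]; ring

/-- the pairs of indices -/
def pr (c : Fin 3) : Fin 2 → Fin 3 := ![![1, 2], ![0, 2], ![0, 1]] c

theorem pr_inj (c : Fin 3) : Function.Injective (pr c) := by
  revert c; decide

theorem extM0 (A : Matrix (Fin 2) (Fin 2) F) :
    extM (pr 0) A = !![1, 0, 0; 0, A 0 0, A 0 1; 0, A 1 0, A 1 1] := by
  ext i j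
  fin_cases i <;> fin_cases j <;>
    simp [extM, pr, inc, Matrix.mul_apply, Fin.sum_univ_two]

theorem extM1 (A : Matrix (Fin 2) (Fin 2) F) :
    extM (pr 1) A = !![A 0 0, 0, A 0 1; 0, 1, 0; A 1 0, 0, A 1 1] := by
  ext i j
  fin_cases i <;> fin_cases j <;>
    simp [extM, pr, inc, Matrix.mul_apply, Fin.sum_univ_two]

theorem extM2 (A : Matrix (Fin 2) (Fin 2) F) :
    extM (pr 2) A = !![A 0 0, A 0 1, 0; A 1 0, A 1 1, 0; 0, 0, 1] := by
  ext i j
  fin_cases i <;> fin_cases j <;>
    simp [extM, pr, inc, Matrix.mul_apply, Fin.sum_univ_two]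

variable [Fintype F]

/-- an element of `SU₂` with a given matrix -/
def mk2 (hF : Fintype.card F = q ^ 2) (A : Matrix (Fin 2) (Fin 2) F) (hd : A.det = 1)
    (h : Aᵀ * A.map (frob hF) = 1) : SU 2 F q :=
  mk A hd ((mul_map_eq_one_iff hF A).2 h)

theorem mat_mk2 (hF : Fintype.card F = q ^ 2) (A : Matrix (Fin 2) (Fin 2) F) (hd : A.det = 1)
    (h : Aᵀ * A.map (frob hF) = 1) : mat (mk2 hF A hd h) = A := rfl

theorem mat_eq (hF : Fintype.card F = q ^ 2) {n : ℕ} (g : SU n F q) : (mat g)ᵀ * (mat g).map (frob hF) = 1 :=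
  (mul_map_eq_one_iff hF _).1 (mat_isom g)

/-- the torus of `SU₂` -/
def tau (hF : Fintype.card F = q ^ 2) : N1 F q →* SU 2 F q where
  toFun a := mk2 hF !![((a : Fˣ) : F), 0; 0, ((a : Fˣ)⁻¹ : Fˣ)]
    (by rw [Matrix.det_fin_two_of]; simp)
    (by
      have h1 := N1.norm a
      have h2 : (((a : Fˣ) : F))⁻¹ * (((a : Fˣ) : F) ^ q)⁻¹ = 1 := by rw [← mul_inv, h1, inv_one]
      have hq : q ≠ 0 := by have := two_le hF; omega
      ext i j
      fin_cases i <;> fin_cases j <;>
        simp [Matrix.mul_apply, Fin.sum_univ_two, frob_apply, hq, h1, h2])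
  map_one' := mat_inj (by
    rw [mat_mk2, mat_one]
    ext i j
    fin_cases i <;> fin_cases j <;> simp)
  map_mul' a b := mat_inj (by
    rw [mat_mul, mat_mk2, mat_mk2, mat_mk2]
    ext i j
    fin_cases i <;> fin_cases j <;>
      simp [Matrix.mul_apply, Fin.sum_univ_two, mul_comm])

theorem mat_tau (hF : Fintype.card F = q ^ 2) (a : N1 F q) :
    mat (tau hF a) = !![((a : Fˣ) : F), 0; 0, ((a : Fˣ)⁻¹ : Fˣ)] := rfl

/-- the Weyl element -/
def wel (hF : Fintype.card F = q ^ 2) : SU 2 F q :=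
  mk2 hF !![0, 1; -1, 0] (by rw [Matrix.det_fin_two_of]; simp)
    (by
      ext i j
      fin_cases i <;> fin_cases j <;>
        simp [Matrix.mul_apply, Fin.sum_univ_two])

theorem mat_wel (hF : Fintype.card F = q ^ 2) : mat (wel hF) = !![0, 1; -1, 0] := rfl

/-- twist by `diag (1, -1)` -/
def tw (hF : Fintype.card F = q ^ 2) (g : SU 2 F q) : SU 2 F q :=
  mk2 hF !![mat g 0 0, - mat g 0 1; - mat g 1 0, mat g 1 1]
    (by
      have h := mat_det g
      rw [Matrix.det_fin_two] at h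
      rw [Matrix.det_fin_two_of]; linear_combination h)
    (by
      have h := mat_eq hF g
      have h00 := congrFun (congrFun h 0) 0
      have h01 := congrFun (congrFun h 0) 1
      have h10 := congrFun (congrFun h 1) 0
      have h11 := congrFun (congrFun h 1) 1
      simp only [Matrix.mul_apply, Fin.sum_univ_two, Matrix.transpose_apply, Matrix.map_apply] at h00 h01 h10 h11
      ext i j
      fin_cases i <;> fin_cases j <;>
        simp [Matrix.mul_apply, Fin.sum_univ_two]
      · simpa using h00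
      · simp at h01; linear_combination -h01
      · simp at h10; linear_combination -h10
      · simpa using h11)

theorem mat_tw (hF : Fintype.card F = q ^ 2) (g : SU 2 F q) :
    mat (tw hF g) = !![mat g 0 0, - mat g 0 1; - mat g 1 0, mat g 1 1] := rfl

theorem tw_tw (hF : Fintype.card F = q ^ 2) (g : SU 2 F q) : tw hF (tw hF g) = g := by
  apply mat_inj
  rw [mat_tw, mat_tw]
  ext i j
  fin_cases i <;> fin_cases j <;> simp

/-- the embedding on the points `≠ c` -/
def em (hF : Fintype.card F = q ^ 2) (c : Fin 3) : SU 2 F q →* SU 3 F q := ext hF (pr c) (pr_inj c)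

theorem mat_em (hF : Fintype.card F = q ^ 2) (c : Fin 3) (g : SU 2 F q) :
    mat (em hF c g) = extM (pr c) (mat g) := rfl

theorem em_inj (hF : Fintype.card F = q ^ 2) (c : Fin 3) : Function.Injective (em hF c) :=
  ext_injective hF _

/-- the standard `SU₂`'s -/
def std (hF : Fintype.card F = q ^ 2) (c : Fin 3) : Subgroup (SU 3 F q) := (em hF c).range

omit [Fintype F] in
theorem conj_eq {n : ℕ} {g x y : SU n F q} (h : mat g * mat x = mat y * mat g) : g * x * g⁻¹ = y := by
  rw [mul_inv_eq_iff_eq_mul]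
  exact mat_inj (by rw [mat_mul, mat_mul, h])

theorem n2_0 (hF : Fintype.card F = q ^ 2) (g : SU 2 F q) :
    em hF 2 (wel hF) * em hF 0 g * (em hF 2 (wel hF))⁻¹ = em hF 1 g := by
  apply conj_eq
  rw [mat_em, mat_em, mat_em, mat_wel, extM0, extM1, extM2]
  ext i j
  fin_cases i <;> fin_cases j <;> simp [Matrix.mul_apply, Fin.sum_univ_three]

theorem n2_1 (hF : Fintype.card F = q ^ 2) (g : SU 2 F q) :
    em hF 2 (wel hF) * em hF 1 g * (em hF 2 (wel hF))⁻¹ = em hF 0 (tw hF g) := by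
  apply conj_eq
  rw [mat_em, mat_em, mat_em, mat_wel, mat_tw, extM0, extM1, extM2]
  ext i j
  fin_cases i <;> fin_cases j <;> simp [Matrix.mul_apply, Fin.sum_univ_three]

theorem n0_2 (hF : Fintype.card F = q ^ 2) (g : SU 2 F q) :
    em hF 0 (wel hF) * em hF 2 g * (em hF 0 (wel hF))⁻¹ = em hF 1 (tw hF g) := by
  apply conj_eq
  rw [mat_em, mat_em, mat_em, mat_wel, mat_tw, extM0, extM1, extM2]
  ext i j
  fin_cases i <;> fin_cases j <;> simp [Matrix.mul_apply, Fin.sum_univ_three]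

theorem wel_tau (hF : Fintype.card F = q ^ 2) (a : N1 F q) :
    wel hF * tau hF a * (wel hF)⁻¹ = tau hF a⁻¹ := by
  apply conj_eq
  rw [mat_tau, mat_tau, mat_wel]
  ext i j
  fin_cases i <;> fin_cases j <;> simp [Matrix.mul_apply, Fin.sum_univ_two]

theorem tw_tau (hF : Fintype.card F = q ^ 2) (a : N1 F q) : tw hF (tau hF a) = tau hF a := by
  apply mat_inj
  rw [mat_tw, mat_tau]
  ext i j
  fin_cases i <;> fin_cases j <;> simp

theorem map_conj_self {G : Type*} [Group G] {H : Subgroup G} {g : G} (hg : g ∈ H) :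
    H.map (MulAut.conj g).toMonoidHom = H := by
  ext x
  constructor
  · rintro ⟨y, hy, rfl⟩
    simpa [MulAut.conj_apply] using mul_mem (mul_mem hg hy) (inv_mem hg)
  · intro hx
    exact ⟨g⁻¹ * x * g, mul_mem (mul_mem (inv_mem hg) hx) hg, by simp [MulAut.conj_apply, mul_assoc]⟩

theorem map_conj_range {G H : Type*} [Group G] [Group H] {f f' : H →* G} {g : G} (θ : H → H)
    (hθ : Function.Surjective θ) (h : ∀ x, g * f x * g⁻¹ = f' (θ x)) :
    f.range.map (MulAut.conj g).toMonoidHom = f'.range := by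
  ext x
  constructor
  · rintro ⟨_, ⟨y, rfl⟩, rfl⟩
    exact ⟨θ y, by rw [← h]; simp [MulAut.conj_apply]⟩
  · rintro ⟨y, rfl⟩
    obtain ⟨z, rfl⟩ := hθ y
    exact ⟨f z, ⟨z, rfl⟩, by rw [← h]; simp [MulAut.conj_apply]⟩

theorem tw_surj (hF : Fintype.card F = q ^ 2) : Function.Surjective (tw hF) := fun g => ⟨tw hF g, tw_tw hF g⟩

/-- `SU₂(q)` is perfect for `q > 3`. -/
theorem commutator_SU2 (hF : Fintype.card F = q ^ 2) (hq : 3 < q) : commutator (SU 2 F q) = ⊤ := by
  classical
  obtain ⟨_, _, _, _, θ, _⟩ := exists_model hF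
  have : Fintype (fixedField hF) := Fintype.ofFinite _
  have h1 : 3 < Fintype.card (fixedField hF) := by
    rw [← Nat.card_eq_fintype_card, card_fixedField]; exact hq
  have h2 := Cfsg.Agent.TwoFusion.SLTwoFacts.commutator_eq_top (F := fixedField hF) h1
  have h3 : (commutator (SpecialLinearGroup (Fin 2) (fixedField hF))).map θ.toMonoidHom = commutator (SU 2 F q) := by
    rw [_root_.commutator_def, _root_.commutator_def, map_commutator]
    have : (⊤ : Subgroup (SpecialLinearGroup (Fin 2) (fixedField hF))).map θ.toMonoidHom = ⊤ := by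
      rw [← MonoidHom.range_eq_map, MonoidHom.range_eq_top]
      exact θ.surjective
    rw [this]
  rw [← h3, h2, ← MonoidHom.range_eq_map, MonoidHom.range_eq_top]
  exact θ.surjective

theorem std_perf (hF : Fintype.card F = q ^ 2) (hq : 3 < q) (c : Fin 3) : ⁅std hF c, std hF c⁆ = std hF c := by
  have h := commutator_SU2 hF hq
  rw [_root_.commutator_def] at h
  rw [std, MonoidHom.range_eq_map, ← map_commutator, h]

/-- the three standard `SU₂`'s of `SU₃` -/
def tri (hF : Fintype.card F = q ^ 2) (hq : 3 < q) : Tri (SU 3 F q) (N1 F q) where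
  std := std hF
  perf := std_perf hF hq
  t c := (em hF c).comp (tau hF)
  t_mem c a := ⟨tau hF a, rfl⟩
  tt a b h := by
    have h1 : mat (em hF 2 (tau hF a) * em hF 0 (tau hF b)) = 1 := congrArg mat h
    rw [mat_mul, mat_em, mat_em, extM0, extM2, mat_tau, mat_tau] at h1
    have h2 := congrFun (congrFun h1 0) 0
    have h3 := congrFun (congrFun h1 2) 2
    simp [Matrix.mul_apply, Fin.sum_univ_three] at h2 h3
    exact ⟨h2, h3⟩
  t_mul a := by
    apply mat_inj
    change mat (em hF 1 (tau hF a)) = mat (em hF 2 (tau hF a) * em hF 0 (tau hF a))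
    rw [mat_mul, mat_em, mat_em, mat_em, extM0, extM1, extM2, mat_tau]
    ext i j
    fin_cases i <;> fin_cases j <;> simp [Matrix.mul_apply, Fin.sum_univ_three]
  n2 := em hF 2 (wel hF)
  n0 := em hF 0 (wel hF)
  n2_std2 := map_conj_self ⟨_, rfl⟩
  n2_std0 := map_conj_range id Function.surjective_id (n2_0 hF)
  n2_std1 := map_conj_range (tw hF) (tw_surj hF) (n2_1 hF)
  n0_std0 := map_conj_self ⟨_, rfl⟩
  n0_std2 := map_conj_range (tw hF) (tw_surj hF) (n0_2 hF)
  n2_t2 a := by
    change em hF 2 (wel hF) * em hF 2 (tau hF a) * (em hF 2 (wel hF))⁻¹ = em hF 2 (tau hF a⁻¹)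
    rw [← map_mul, ← map_inv, ← map_mul, wel_tau]
  n2_t0 a := n2_0 hF _
  n2_t1 a := by
    refine (n2_1 hF _).trans ?_
    rw [tw_tau]; rfl
  n0_t0 a := by
    change em hF 0 (wel hF) * em hF 0 (tau hF a) * (em hF 0 (wel hF))⁻¹ = em hF 0 (tau hF a⁻¹)
    rw [← map_mul, ← map_inv, ← map_mul, wel_tau]
  n0_t2 a := by
    refine (n0_2 hF _).trans ?_
    rw [tw_tau]; rfl

theorem tau_inj (hF : Fintype.card F = q ^ 2) : Function.Injective (tau hF : N1 F q →* SU 2 F q) := by
  intro a b h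
  have h1 := congrFun (congrFun (congrArg mat h) 0) 0
  rw [mat_tau, mat_tau] at h1
  apply Subtype.ext
  apply Units.ext
  simpa using h1

theorem card_SU2 (hF : Fintype.card F = q ^ 2) : (Nat.card (SU 2 F q) : ℤ) = q * (q + 1) * (q - 1) := by
  have h2 := two_le hF
  have h := Cfsg.Agent.S0278.result hF 2 (by norm_num)
  simp only [Finset.prod_range_succ, Finset.prod_range_zero, Nat.even_iff] at h
  norm_num at h
  have h1 : 1 ≤ q ^ 2 := Nat.one_le_pow _ _ (by omega)
  have h' := congrArg (fun n : ℕ => (n : ℤ)) h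
  push_cast [Nat.cast_sub h1] at h'
  have h3 : ((q : ℤ) + 1) ≠ 0 := by positivity
  apply mul_left_cancel₀ h3
  rw [h']; ring

theorem card_SU3 (hF : Fintype.card F = q ^ 2) :
    (Nat.card (SU 3 F q) : ℤ) = q ^ 3 * (q + 1) ^ 2 * (q - 1) * (q ^ 2 - q + 1) := by
  have h2 := two_le hF
  have h := Cfsg.Agent.S0278.result hF 3 (by norm_num)
  simp only [Finset.prod_range_succ, Finset.prod_range_zero, Nat.even_iff] at h
  norm_num at h
  have h1 : 1 ≤ q ^ 2 := Nat.one_le_pow _ _ (by omega)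
  have h' := congrArg (fun n : ℕ => (n : ℤ)) h
  push_cast [Nat.cast_sub h1] at h'
  have h3 : ((q : ℤ) + 1) ≠ 0 := by positivity
  apply mul_left_cancel₀ h3
  rw [h']; ring

theorem card_N1 (hF : Fintype.card F = q ^ 2) : Nat.card (N1 F q) = q + 1 :=
  Cfsg.Agent.LieClassical.GUOrder.card_ker_pow hF

theorem numData (hF : Fintype.card F = q ^ 2) (hq : 3 < q) : (tri hF hq).NumData (q : ℤ) (-1) where
  sign := Or.inr rfl
  cardC := by rw [card_N1 hF]; push_cast; ring
  pos := by omega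
  cardStd c := by
    have h : Nat.card ((tri hF hq).std c) = Nat.card (SU 2 F q) :=
      (Nat.card_congr (MonoidHom.ofInjective (em_inj hF c)).toEquiv).symm
    rw [h, card_SU2 hF]; ring
  cardS := by rw [card_SU3 hF]; ring
  inj c := by
    change Function.Injective ((em hF c).comp (tau hF))
    rw [MonoidHom.coe_comp]
    exact (em_inj hF c).comp (tau_inj hF)
  s3 := by
    apply mat_inj
    change mat ((em hF 2 (wel hF) * em hF 0 (wel hF)) ^ 3) = 1
    rw [pow_succ, pow_two, mat_mul, mat_mul, mat_mul, mat_em, mat_em, mat_wel, extM0, extM2]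
    ext i j
    fin_cases i <;> fin_cases j <;> simp [Matrix.mul_apply, Fin.sum_univ_three]
  sn := by
    rintro ⟨⟨a, b⟩, h⟩
    have h1 : mat (em hF 2 (tau hF a) * em hF 0 (tau hF b)) = mat (em hF 2 (wel hF) * em hF 0 (wel hF)) :=
      congrArg mat h
    rw [mat_mul, mat_mul, mat_em, mat_em, mat_em, mat_em, extM0, extM2, extM0, extM2, mat_tau, mat_tau, mat_wel] at h1
    have h2 := congrFun (congrFun h1 0) 2
    simp [Matrix.mul_apply, Fin.sum_univ_three] at h2

/-- `std c` is isomorphic to `SU₂(q)`. -/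
noncomputable def stdEquiv (hF : Fintype.card F = q ^ 2) (c : Fin 3) : SU 2 F q ≃* std hF c :=
  MonoidHom.ofInjective (em_inj hF c)

theorem std_eq (hF : Fintype.card F = q ^ 2) (c : Fin 3) : std hF c = (ext hF (pr c) (pr_inj c)).range := rfl

/-- **Lifting for `SU₃(q)`**, `q > 3`. -/
theorem exists_hom (hF : Fintype.card F = q ^ 2) (hq : 3 < q) {J : Type*} [Group J] [Finite J]
    (π : J →* PSU 3 F q) (hπ : Function.Surjective π) (hkπ : π.ker ≤ center J) (hJ : commutator J = ⊤)
    (hr : ∀ r : ℕ, r.Prime → r ∣ Nat.card π.ker → r ≠ 2 ∧ r ∣ q + 1) :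
    ∃ φ : SU 3 F q →* J, Function.Surjective φ ∧ π.comp φ = QuotientGroup.mk' (center (SU 3 F q)) ∧
      ∀ c, ∀ A : Subgroup J, ⁅A, A⁆ = A →
        A.map π = (std hF c).map (QuotientGroup.mk' (center (SU 3 F q))) → (std hF c).map φ = A := by
  refine (numData hF hq).exists_hom π (QuotientGroup.mk' (center (SU 3 F q))) hπ
    (QuotientGroup.mk'_surjective _) hkπ hJ
    (Cfsg.Agent.LieClassical.HermPerfect.commutator_SU_eq_top hF le_rfl (by omega)) (fun r h1 h2 => ?_)
  obtain ⟨h3, h4⟩ := hr r h1 h2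
  refine ⟨h3, ?_⟩
  have h5 : (r : ℤ) ∣ ((q + 1 : ℕ) : ℤ) := by exact_mod_cast h4
  simpa using h5

end Cfsg.Agent.LThreeExt.SU3
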